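import Groth.Agent.Synt29.ConormalExact
import Groth.Agent.Synt29.ConormalSeq
import Groth.Agent.OmegaUniv.Universal

/-! The conormal sheaf of a section is the pullback of the sheaf of differentials. -/

set_option autoImplicit false

universe u

open CategoryTheory CategoryTheory.Limits AlgebraicGeometry TopologicalSpace Opposite

namespace Groth.Agent.GrpOmega

open Groth.Agent.Synt29

variable {Z X Y : Scheme.{u}} (f : X ⟶ Y) (i : Z ⟶ X)

/-- The derivation induces a map on the conormal sheaf. -/
theorem exists_conormalDiff [QuasiCompact i] (Ω : X.Modules) (d : OmegaSh.Der f Ω) :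
    ∃ φ : Omega.conormal i ⟶ (Scheme.Modules.pullback i).obj Ω, OmegaSh.IsConormalDiff i d φ := by
  let P := (Scheme.Modules.pullback i).obj Ω
  let g : ClSub.idealMod i.ker ⟶ (Scheme.Modules.pushforward i).obj P :=
    ⟨PresheafOfModules.homMk
      { app := fun W => AddCommGrpCat.ofHom (AddMonoidHom.mk'
          (fun k : Γ(ClSub.idealMod i.ker, W.unop) => (show Γ((Scheme.Modules.pushforward i).obj P, W.unop)
            from OmegaSh.pullSect i Ω W.unop (d.app W.unop (OmegaSh.idealSect i.ker W.unop k))))
          fun k k' => (congrArg (OmegaSh.pullSect i Ω W.unop)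
            ((congrArg (d.app W.unop) (map_add (OmegaSh.idealSect i.ker W.unop) k k')).trans (map_add _ _ _))).trans
              (map_add (OmegaSh.pullSect i Ω W.unop).hom _ _))
        naturality := fun W W' j => AddCommGrpCat.ext fun k => by
          show OmegaSh.pullSect i Ω W'.unop (d.app W'.unop (OmegaSh.idealSect i.ker W'.unop
            ((ClSub.idealMod i.ker).presheaf.map (homOfLE j.unop.le).op k))) = _
          rw [OmegaLib.idealSect_map, OmegaStalk.app_res]
          exact congr($(((Scheme.Modules.pullbackPushforwardAdjunction i).unit.app Ω).mapPresheaf.naturality j) _) }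
      fun W (r : Γ(X, W.unop)) (k : Γ(ClSub.idealMod i.ker, W.unop)) => by
        show OmegaSh.pullSect i Ω W.unop (d.app W.unop (OmegaSh.idealSect i.ker W.unop (r • k))) =
          r • (show Γ((Scheme.Modules.pushforward i).obj P, W.unop) from
            OmegaSh.pullSect i Ω W.unop (d.app W.unop (OmegaSh.idealSect i.ker W.unop k)))
        rw [OmegaLib.idealSect_smul, OmegaStalk.app_mul, map_add]
        show ((Scheme.Modules.pullbackPushforwardAdjunction i).unit.app Ω).app W.unop _ +
          ((Scheme.Modules.pullbackPushforwardAdjunction i).unit.app Ω).app W.unop _ = _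
        rw [Scheme.Modules.Hom.app_smul, Scheme.Modules.Hom.app_smul]
        refine (congrArg _ ?_).trans (add_zero _)
        show i.app W.unop (OmegaSh.idealSect i.ker W.unop k) •
          OmegaSh.pullSect i Ω W.unop (d.app W.unop r) = 0
        rw [OmegaUniv.app_idealSect, zero_smul]⟩
  refine ⟨((Scheme.Modules.pullbackPushforwardAdjunction i).homEquiv _ _).symm g, fun U k => ?_⟩
  refine (OmegaLib.pullSect_adjoint i _ _ _ U k).trans ?_
  rw [Equiv.apply_symm_apply]
  rfl

/-- For a quasi-compact section, the conormal sheaf is the restricted sheaf of differentials. -/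
theorem nonempty_conormalIso (g : Y ⟶ Z) (hg : (i ≫ f) ≫ g = 𝟙 Z)
    (hg' : g ≫ i ≫ f = 𝟙 Y) [IsImmersion i] [QuasiCompact i] [QuasiSeparated f] :
    Nonempty (Omega.conormal i ≅ (Scheme.Modules.pullback i).obj (Omega.sheaf f)) := by
  have hu := OmegaUniv.isUniversal_dOmega f
  obtain ⟨φ, hφ⟩ := exists_conormalDiff f i _ (OmegaSh.dOmega f)
  haveI : IsIso (i ≫ f) := ⟨g, hg, hg'⟩
  haveI : Epi φ := ConormalExact.epi_conormalDiff f i _ _ hu φ hφ
  haveI : Mono φ := ConormalSeq.mono_of_retraction f i (f ≫ g)
    (by rw [← Category.assoc, hg]) (by rw [Category.assoc, hg', Category.comp_id]) _ _ hu φ hφ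
  have : IsIso φ := isIso_of_mono_of_epi φ
  exact ⟨asIso φ⟩

end Groth.Agent.GrpOmega
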