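import Groth.Agent.QCoh.Tilde
import Groth.Agent.QCoh.Pullback
import Groth.Agent.PicClLib.Basic

/-! Quasi-coherent modules over the spectrum of a field are free. -/

set_option autoImplicit false

universe u

open CategoryTheory CategoryTheory.Limits AlgebraicGeometry

namespace Groth.Agent.GrpOmega

theorem exists_free_spec (K : Type u) [Field K] {M : (Spec (CommRingCat.of K)).Modules}
    (hM : Coh.IsQCoh M) :
    ∃ I : Type u, Nonempty (M ≅ ∐ fun _ : I => Coh.structureModule (Spec (CommRingCat.of K))) := by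
  obtain ⟨V, ⟨e⟩⟩ := QCoh.isQCoh_spec_iff.1 hM
  let b := Module.Free.chooseBasis K V
  exact ⟨_, ⟨e.symm ≪≫ (tilde.functor (CommRingCat.of K)).mapIso b.repr.toModuleIso ≪≫ tildeFinsupp _⟩⟩

theorem nonempty_pullback_sigma {X S : Scheme.{u}} (f : X ⟶ S) (I : Type u) :
    Nonempty ((Scheme.Modules.pullback f).obj (∐ fun _ : I => Coh.structureModule S) ≅
      ∐ fun _ : I => Coh.structureModule X) := by
  obtain ⟨e⟩ := PicClLib.nonempty_pullback_structureModule f
  have : (Scheme.Modules.pullback f).IsLeftAdjoint :=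
    (Scheme.Modules.pullbackPushforwardAdjunction f).isLeftAdjoint
  exact ⟨PreservesCoproduct.iso (Scheme.Modules.pullback f) _ ≪≫ Sigma.mapIso fun _ => e⟩

theorem exists_free_pullback {X S : Scheme.{u}} (f : X ⟶ S) {M : S.Modules} (hM : Coh.IsQCoh M)
    (K : Type u) [Field K] (e : S ≅ Spec (CommRingCat.of K)) :
    ∃ I : Type u, Nonempty ((Scheme.Modules.pullback f).obj M ≅
      ∐ fun _ : I => Coh.structureModule X) := by
  obtain ⟨I, ⟨a⟩⟩ := exists_free_spec K (QCoh.isQCoh_pullback e.inv hM)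
  obtain ⟨b⟩ := nonempty_pullback_sigma (f ≫ e.hom) I
  refine ⟨I, ⟨(Scheme.Modules.pullbackCongr (show f = (f ≫ e.hom) ≫ e.inv by simp)).app M ≪≫
    ((Scheme.Modules.pullbackComp (f ≫ e.hom) e.inv).app M).symm ≪≫
    (Scheme.Modules.pullback _).mapIso a ≪≫ b⟩⟩

end Groth.Agent.GrpOmega
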