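import Groth.Agent.S9370
import Groth.Agent.S9386
import Groth.Agent.OmegaUniv.Universal
import Mathlib.CategoryTheory.Monoidal.Cartesian.Grp

/-! Invariance of differentials of a group scheme. -/

set_option autoImplicit false

universe u

open CategoryTheory CategoryTheory.Limits AlgebraicGeometry MonoidalCategory CartesianMonoidalCategory
open MonObj GrpObj

namespace Groth.Agent.GrpOmega

theorem nonempty_omega_baseChange {X S X' S' : Scheme.{u}} {f : X ⟶ S} {g : S' ⟶ S} {g' : X' ⟶ X}
    {f' : X' ⟶ S'} (sq : IsPullback g' f' f g) [QuasiSeparated f] :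
    Nonempty ((Scheme.Modules.pullback g').obj (Omega.sheaf f) ≅ Omega.sheaf f') := by
  haveI : QuasiSeparated f' := MorphismProperty.of_isPullback sq inferInstance
  obtain ⟨c, hc, -⟩ := S9370.result f f' g' g sq.w.symm _ _ (OmegaUniv.isUniversal_dOmega f) _ _
    (OmegaUniv.isUniversal_dOmega f')
  haveI := S9386.result _ _ _ _ sq _ _ (OmegaUniv.isUniversal_dOmega f) _ _
    (OmegaUniv.isUniversal_dOmega f') c hc
  exact ⟨asIso c⟩

variable {S : Scheme.{u}} (G : Over S) [GrpObj G]

/-- `(a, b) ↦ (a, a * b)`. -/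
noncomputable def shear : G ⊗ G ≅ G ⊗ G where
  hom := lift (fst G G) (fst G G * snd G G)
  inv := lift (fst G G) ((fst G G)⁻¹ * snd G G)
  hom_inv_id := by
    ext <;> simp [MonObj.comp_mul, GrpObj.comp_inv]
  inv_hom_id := by
    ext <;> simp [MonObj.comp_mul, GrpObj.comp_inv]

theorem isPullback_mul : IsPullback μ[G].left (fst G G).left G.hom G.hom := by
  have h := (IsPullback.of_hasPullback G.hom G.hom).flip
  refine h.of_iso ((Over.forget S).mapIso (shear G)).symm (Iso.refl _) (Iso.refl _) (Iso.refl _)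
    ?_ ?_ ?_ ?_
  · show (snd G G).left ≫ 𝟙 _ = (shear G).inv.left ≫ μ[G].left
    rw [Category.comp_id, ← Over.comp_left]
    exact congrArg CommaMorphism.left (by simp [shear, MonObj.mul_eq_mul, MonObj.comp_mul, GrpObj.comp_inv])
  · show (fst G G).left ≫ 𝟙 _ = (shear G).inv.left ≫ (fst G G).left
    rw [Category.comp_id, ← Over.comp_left]
    exact congrArg CommaMorphism.left (by simp [shear])
  · simp
  · simp

theorem nonempty_omega_iso [QuasiSeparated G.hom] :
    Nonempty ((Scheme.Modules.pullback G.hom).obj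
      ((Scheme.Modules.pullback η[G].left).obj (Omega.sheaf G.hom)) ≅ Omega.sheaf G.hom) := by
  obtain ⟨a⟩ := nonempty_omega_baseChange (isPullback_mul G)
  obtain ⟨b⟩ := nonempty_omega_baseChange
    (show IsPullback (snd G G).left (fst G G).left G.hom G.hom from
      (IsPullback.of_hasPullback G.hom G.hom).flip)
  let s : G ⟶ G ⊗ G := lift (𝟙 G) 1
  have h₁ : s.left ≫ μ[G].left = 𝟙 G.left := by
    rw [← Over.comp_left]
    exact congrArg CommaMorphism.left (show s ≫ μ[G] = 𝟙 G by simp [s, MonObj.mul_eq_mul, MonObj.comp_mul])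
  have h₂ : s.left ≫ (snd G G).left = G.hom ≫ η[G].left := by
    rw [← Over.comp_left]
    exact congrArg CommaMorphism.left (show s ≫ snd G G = toUnit G ≫ η[G] by
      simp [s, MonObj.one_eq_one, MonObj.comp_one])
  exact ⟨((Scheme.Modules.pullbackComp G.hom η[G].left).app _ ≪≫
    (Scheme.Modules.pullbackCongr h₂.symm).app _ ≪≫
    ((Scheme.Modules.pullbackComp s.left (snd G G).left).app _).symm ≪≫
    (Scheme.Modules.pullback s.left).mapIso (b ≪≫ a.symm) ≪≫
    (Scheme.Modules.pullbackComp s.left μ[G].left).app _ ≪≫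
    (Scheme.Modules.pullbackCongr h₁).app _ ≪≫
    (Scheme.Modules.pullbackId G.left).app _)⟩

end Groth.Agent.GrpOmega
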